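import Mathlib.Algebra.BigOperators.Fin
import Mathlib.Data.Fintype.BigOperators
import Mathlib.Tactic

/-!
# Families of norm two vectors with pairwise inner product one
-/

namespace Cfsg.Agent.Lib.Fgs9.CubeFour

universe u
variable {ι : Type u} [Fintype ι] [DecidableEq ι]

/-- The difference of two coordinate vectors. -/
def dvec (p q : ι) (i : ι) : ℤ := (if i = p then 1 else 0) - if i = q then 1 else 0

theorem dvec_inner (p q p' q' : ι) :
    ∑ i, dvec p q i * dvec p' q' i =
      (if p = p' then 1 else 0) - (if p = q' then 1 else 0) - (if q = p' then 1 else 0) +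
        if q = q' then 1 else 0 := by
  simp only [dvec, sub_mul, mul_sub, Finset.sum_sub_distrib, ite_mul, mul_ite, one_mul, zero_mul,
    mul_one, mul_zero, Finset.sum_ite_eq', Finset.mem_univ, if_true]
  simp only [eq_comm]
  ring

theorem eq_dvec (D : ι → ℤ) (d : ι → ℕ) (hd : ∀ i, 0 < d i) (hn : ∑ i, D i * D i = 2)
    (h0 : ∑ i, (d i : ℤ) * D i = 0) : ∃ p q, p ≠ q ∧ d p = d q ∧ D = dvec p q := by
  have hle : ∀ i, D i * D i ≤ 2 := fun i =>
    hn ▸ Finset.single_le_sum (fun j _ => mul_self_nonneg (D j)) (Finset.mem_univ i)
  have hval : ∀ i, D i = 0 ∨ D i = 1 ∨ D i = -1 := by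
    intro i
    have h1 := hle i
    have h2 : -1 ≤ D i := by nlinarith
    have h3 : D i ≤ 1 := by nlinarith
    omega
  let s := Finset.univ.filter fun i => D i ≠ 0
  have hs : s.card = 2 := by
    have : ∑ i, D i * D i = (s.card : ℤ) := by
      rw [Finset.card_filter, Nat.cast_sum]
      refine Finset.sum_congr rfl fun i _ => ?_
      rcases hval i with h | h | h <;> simp [h]
    omega
  obtain ⟨p, q, hpq, hspq⟩ := Finset.card_eq_two.1 hs
  have hz : ∀ i, i ≠ p → i ≠ q → D i = 0 := by
    intro i hip hiq
    by_contra h
    have hi : i ∈ s := Finset.mem_filter.2 ⟨Finset.mem_univ _, h⟩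
    rw [hspq] at hi
    simp [hip, hiq] at hi
  have hp : D p ≠ 0 := (Finset.mem_filter.1 (hspq ▸ Finset.mem_insert_self p {q} : p ∈ s)).2
  have hq : D q ≠ 0 :=
    (Finset.mem_filter.1 (hspq ▸ Finset.mem_insert_of_mem (Finset.mem_singleton_self q) : q ∈ s)).2
  have hsum : (d p : ℤ) * D p + (d q : ℤ) * D q = 0 := by
    rw [← h0, Finset.sum_eq_add p q hpq]
    · intro i _ hi
      rw [hz i hi.1 hi.2, mul_zero]
    · simp
    · simp
  have hdp := hd p
  have hdq := hd q
  rcases hval p with h | h | h
  · exact absurd h hp
  · rcases hval q with h' | h' | h'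
    · exact absurd h' hq
    · rw [h, h'] at hsum; omega
    · refine ⟨p, q, hpq, by rw [h, h'] at hsum; omega, funext fun i => ?_⟩
      by_cases hip : i = p
      · subst hip; simp [dvec, h, hpq]
      · by_cases hiq : i = q
        · subst hiq; simp [dvec, h', hpq.symm]
        · simp [dvec, hip, hiq, hz i hip hiq]
  · rcases hval q with h' | h' | h'
    · exact absurd h' hq
    · refine ⟨q, p, hpq.symm, by rw [h, h'] at hsum; omega, funext fun i => ?_⟩
      by_cases hip : i = p
      · subst hip; simp [dvec, h, hpq]
      · by_cases hiq : i = q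
        · subst hiq; simp [dvec, h', hpq.symm]
        · simp [dvec, hip, hiq, hz i hip hiq]
    · rw [h, h'] at hsum; omega

/-- A family of at least three norm two vectors of degree zero with pairwise inner product one
has a common signed constituent. -/
theorem exists_exceptional (D : Fin 4 → ι → ℤ) (d : ι → ℕ) (hd : ∀ i, 0 < d i)
    (hgram : ∀ a b, ∑ i, D a i * D b i = if a = b then 2 else 1)
    (h0 : ∀ a, ∑ i, (d i : ℤ) * D a i = 0) :
    ∃ (ε : ℤ) (x : Fin 5 → ι), (ε = 1 ∨ ε = -1) ∧ Function.Injective x ∧
      (∀ j, d (x j) = d (x 0)) ∧ ∀ a i, D a i = ε * dvec (x 0) (x a.succ) i := by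
  choose p q hpq hdpq hD using fun a => eq_dvec (D a) d hd (by rw [hgram]; simp) (h0 a)
  have hpair : ∀ a b, a ≠ b → (p a = p b ∧ q a ≠ q b) ∨ (q a = q b ∧ p a ≠ p b) := by
    intro a b hab
    have h := hgram a b
    rw [if_neg hab, hD a, hD b, dvec_inner] at h
    have h1 := hpq a
    have h2 := hpq b
    by_cases e1 : p a = p b <;> by_cases e2 : q a = q b <;>
      simp only [e1, e2, if_true, if_false] at h <;>
      first
        | exact Or.inl ⟨e1, e2⟩
        | exact Or.inr ⟨e2, e1⟩
        | (exfalso; split_ifs at h <;> first | omega | simp_all)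
  rcases hpair 0 1 (by decide) with ⟨h01, h01'⟩ | ⟨h01, h01'⟩
  · have hc : ∀ a, p a = p 0 := by
      intro a
      by_cases ha : a = 0
      · rw [ha]
      by_cases ha1 : a = 1
      · rw [ha1, h01]
      rcases hpair a 0 ha with ⟨h, _⟩ | ⟨h, h'⟩
      · exact h
      · rcases hpair a 1 ha1 with ⟨g, _⟩ | ⟨g, _⟩
        · exact absurd (g.trans h01.symm) h'
        · exact absurd (h.symm.trans g) h01'
    refine ⟨1, Fin.cons (p 0) q, Or.inl rfl, ?_, ?_, ?_⟩
    · intro a b hab
      induction a using Fin.cases with
      | zero =>
        induction b using Fin.cases with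
        | zero => rfl
        | succ b =>
          simp only [Fin.cons_zero, Fin.cons_succ] at hab
          exact absurd ((hc b).trans hab) (hpq b)
      | succ a =>
        induction b using Fin.cases with
        | zero =>
          simp only [Fin.cons_zero, Fin.cons_succ] at hab
          exact absurd ((hc a).trans hab.symm) (hpq a)
        | succ b =>
          simp only [Fin.cons_succ] at hab
          by_contra hne
          have hne' : a ≠ b := fun e => hne (congrArg Fin.succ e)
          rcases hpair a b hne' with ⟨_, g⟩ | ⟨_, g⟩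
          · exact g hab
          · exact g ((hc a).trans (hc b).symm)
    · intro j
      induction j using Fin.cases with
      | zero => rfl
      | succ a => simp only [Fin.cons_zero, Fin.cons_succ]; rw [← hdpq a, hc a]
    · intro a i
      rw [hD a]
      simp [dvec, hc a]
  · have hc : ∀ a, q a = q 0 := by
      intro a
      by_cases ha : a = 0
      · rw [ha]
      by_cases ha1 : a = 1
      · rw [ha1, h01]
      rcases hpair a 0 ha with ⟨h, h'⟩ | ⟨h, _⟩
      · rcases hpair a 1 ha1 with ⟨g, _⟩ | ⟨g, _⟩
        · exact absurd (h.symm.trans g) h01'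
        · exact absurd (g.trans h01.symm) h'
      · exact h
    refine ⟨-1, Fin.cons (q 0) p, Or.inr rfl, ?_, ?_, ?_⟩
    · intro a b hab
      induction a using Fin.cases with
      | zero =>
        induction b using Fin.cases with
        | zero => rfl
        | succ b =>
          simp only [Fin.cons_zero, Fin.cons_succ] at hab
          exact absurd (hab.symm.trans (hc b).symm) (hpq b)
      | succ a =>
        induction b using Fin.cases with
        | zero =>
          simp only [Fin.cons_zero, Fin.cons_succ] at hab
          exact absurd (hab.trans (hc a).symm) (hpq a)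
        | succ b =>
          simp only [Fin.cons_succ] at hab
          by_contra hne
          have hne' : a ≠ b := fun e => hne (congrArg Fin.succ e)
          rcases hpair a b hne' with ⟨_, g⟩ | ⟨_, g⟩
          · exact g ((hc a).trans (hc b).symm)
          · exact g hab
    · intro j
      induction j using Fin.cases with
      | zero => rfl
      | succ a => simp only [Fin.cons_zero, Fin.cons_succ]; rw [hdpq a, hc a]
    · intro a i
      rw [hD a]
      simp [dvec, hc a]

end Cfsg.Agent.Lib.Fgs9.CubeFour
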