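import Cfsg.Agent.Lib.Fgs9.CubeFour.Local
import Cfsg.Agent.Lib.Characters.Linear
import Mathlib.Tactic.LinearCombination

/-!
# Multiplicities of the linear characters of `F₃³` in the characters of `G`
-/

namespace Cfsg.Agent.Lib.Fgs9.CubeFour

open Cfsg.Agent.Lib.Characters.Basic Cfsg.Agent.Lib.Characters.Complete
open scoped ComplexConjugate

/-- A primitive cube root of unity. -/
noncomputable def om : ℂ := (-1 + (Real.sqrt 3 : ℂ) * Complex.I) / 2

theorem om_sq : om * om = -1 - om := by
  have h : (Real.sqrt 3 : ℂ) * (Real.sqrt 3 : ℂ) = 3 := by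
    rw [← Complex.ofReal_mul, Real.mul_self_sqrt (by norm_num)]
    norm_num
  rw [om]
  linear_combination (Complex.I * Complex.I / 4) * h + (3 / 4 : ℂ) * Complex.I_mul_I

theorem conj_om : conj om = -1 - om := by
  rw [om]
  simp only [map_div₀, map_add, map_neg, map_one, map_mul, Complex.conj_ofReal, Complex.conj_I,
    map_ofNat]
  ring

/-- Eisenstein coordinates. -/
noncomputable def toC (p : ℤ × ℤ) : ℂ := (p.1 : ℂ) + (p.2 : ℂ) * om

/-- Multiplication of Eisenstein integers. -/
def emul (p q : ℤ × ℤ) : ℤ × ℤ :=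
  (p.1 * q.1 - p.2 * q.2, p.1 * q.2 + p.2 * q.1 - p.2 * q.2)

/-- Conjugation of Eisenstein integers. -/
def econj (p : ℤ × ℤ) : ℤ × ℤ := (p.1 - p.2, -p.2)

theorem toC_mul (p q : ℤ × ℤ) : toC (emul p q) = toC p * toC q := by
  simp only [toC, emul]
  push_cast
  linear_combination (-((p.2 : ℂ) * (q.2 : ℂ))) * om_sq

theorem toC_conj (p : ℤ × ℤ) : toC (econj p) = conj (toC p) := by
  simp only [toC, econj, map_add, map_mul, map_intCast, conj_om]
  push_cast
  ring

theorem toC_add (p q : ℤ × ℤ) : toC (p + q) = toC p + toC q := by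
  simp only [toC, Prod.fst_add, Prod.snd_add]
  push_cast
  ring

theorem toC_sum {ι : Type*} (s : Finset ι) (f : ι → ℤ × ℤ) :
    toC (∑ i ∈ s, f i) = ∑ i ∈ s, toC (f i) := by
  classical
  induction s using Finset.induction_on with
  | empty => simp [toC]
  | insert a t ha ih => rw [Finset.sum_insert ha, Finset.sum_insert ha, toC_add, ih]

/-- The three cube roots of unity in Eisenstein coordinates. -/
def eis : ZMod 3 → ℤ × ℤ := fun k => if k = 0 then (1, 0) else if k = 1 then (0, 1) else (-1, -1)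

/-- The additive character of `ZMod 3`. -/
noncomputable def pw (k : ZMod 3) : ℂ := toC (eis k)

theorem eis_add : ∀ j k : ZMod 3, eis (j + k) = emul (eis j) (eis k) := by decide +kernel

theorem eis_neg : ∀ k : ZMod 3, eis (-k) = econj (eis k) := by decide +kernel

theorem pw_add (j k : ZMod 3) : pw (j + k) = pw j * pw k := by
  rw [pw, eis_add, toC_mul]; rfl

theorem pw_neg (k : ZMod 3) : pw (-k) = conj (pw k) := by rw [pw, eis_neg, toC_conj]; rfl

theorem pw_zero : pw 0 = 1 := by simp [pw, toC, eis]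

theorem eis_sum : ∀ s : A, ∑ m : A, eis (dot m s) = if s = 0 then (27, 0) else 0 := by
  decide +kernel

theorem pw_sum (s : A) : ∑ m : A, pw (dot m s) = if s = 0 then 27 else 0 := by
  simp only [pw, ← toC_sum, eis_sum s]
  split_ifs <;> simp [toC]

theorem dot_comm (a b : A) : dot a b = dot b a := by simp only [dot]; ring

theorem dot_act (v : Fin 4) (a s : A) : dot (act v a) s = dot a (act v s) := by
  simp only [dot, act, Prod.fst_mul, Prod.snd_mul]; ring

theorem dot_sub (a b s : A) : dot (a - b) s = dot a s - dot b s := by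
  simp only [dot, Prod.fst_sub, Prod.snd_sub]; ring

theorem dot_sub' (a b s : A) : dot s (a - b) = dot s a - dot s b := by
  simp only [dot, Prod.fst_sub, Prod.snd_sub]; ring

/-- The orbit number of a vector. -/
def orb (a : A) : Fin 9 :=
  if a.1 = 0 then
    (if a.2.1 = 0 then (if a.2.2 = 0 then 0 else 3) else (if a.2.2 = 0 then 2 else 6))
  else if a.2.1 = 0 then (if a.2.2 = 0 then 1 else 5)
  else if a.2.2 = 0 then 4 else if a.1 * a.2.1 * a.2.2 = 1 then 7 else 8

/-- Orbit representatives. -/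
def rep : Fin 9 → A :=
  ![(0, 0, 0), (1, 0, 0), (0, 1, 0), (0, 0, 1), (1, 1, 0), (1, 0, 1), (0, 1, 1), (1, 1, 1),
    (2, 2, 2)]

theorem exists_act_rep : ∀ m : A, ∃ v, act v (rep (orb m)) = m := by decide +kernel

theorem act_act : ∀ v : Fin 4, ∀ a : A, act v (act v a) = a := by decide +kernel

theorem card_trans : ∀ s t : A, (∃ v, act v s = t) →
    (Finset.univ.filter fun v => act v s = t).card =
      (Finset.univ.filter fun v => act v s = s).card := by decide +kernel

/-- Orbit sums of the characters. -/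
def K (i : Fin 9) (t : A) : ℤ × ℤ :=
  ∑ m ∈ Finset.univ.filter (fun m => orb m = i), eis (dot m t)

/-- The inner product of two differences of orbit characters. -/
def gram (a a' b b' : A) : ℤ :=
  ∑ v : Fin 4, ((if act v b = a then 1 else 0) - (if act v b' = a then 1 else 0) -
    (if act v b = a' then 1 else 0) + (if act v b' = a' then 1 else 0))

universe u
variable {G : Type u} [Group G] [Fintype G] {H : Subgroup G} (F : Frame G H)

/-- The multiplicity of the character of `F₃³` with parameter `m`. -/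
noncomputable def mu (χ : Cfsg.IrrCharacter G) (m : A) : ℂ :=
  (27 : ℂ)⁻¹ * ∑ t : A, (χ : G → ℂ) (F.e t) * pw (-(dot m t))

theorem exists_mu_int (χ : Cfsg.IrrCharacter G) (m : A) : ∃ n : ℤ, mu F χ m = n := by
  classical
  let e' : Multiplicative A →* G :=
    { toFun := fun a => F.e a.toAdd
      map_one' := e_zero F
      map_mul' := fun a b => F.e_add _ _ }
  let lam : Multiplicative A →* ℂˣ := MonoidHom.toHomUnits
    { toFun := fun a => pw (dot m a.toAdd)
      map_one' := by
        have : dot m (Multiplicative.toAdd (1 : Multiplicative A)) = 0 := by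
          simp [dot, toAdd_one]
        rw [this, pw_zero]
      map_mul' := fun a b => by
        rw [← pw_add]
        congr 1
        simp only [dot, toAdd_mul, Prod.fst_add, Prod.snd_add]
        ring }
  obtain ⟨n, hn⟩ := exists_classInner_nat (isCharacter_comp e' (isCharacter_irr χ))
    (isCharacter_irr (Cfsg.Agent.Lib.Characters.Linear.linChar lam))
  refine ⟨n, ?_⟩
  rw [Int.cast_natCast, ← hn, mu, Cfsg.classInner]
  congr 1
  · simp
  · refine Fintype.sum_equiv Multiplicative.ofAdd _ _ fun t => ?_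
    rw [Cfsg.Agent.Lib.Characters.Linear.linChar_apply, pw_neg]
    rfl

theorem mu_act (χ : Cfsg.IrrCharacter G) (v : Fin 4) (m : A) :
    mu F χ (act v m) = mu F χ m := by
  rw [mu, mu]
  congr 1
  refine Fintype.sum_equiv (Function.Involutive.toPerm (act v) (act_act v)) _ _ fun t => ?_
  show _ = (χ : G → ℂ) (F.e (act v t)) * pw (-(dot m (act v t)))
  rw [dot_act, ← F.f_conj, isClassFunction_irr χ]

theorem apply_eq_mu (χ : Cfsg.IrrCharacter G) (t : A) :
    (χ : G → ℂ) (F.e t) = ∑ m : A, mu F χ m * pw (dot m t) := by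
  simp only [mu, mul_assoc, Finset.sum_mul, ← Finset.mul_sum]
  rw [Finset.sum_comm]
  have h : ∀ s : A, ∑ m : A, (χ : G → ℂ) (F.e s) * (pw (-(dot m s)) * pw (dot m t)) =
      if s = t then 27 * (χ : G → ℂ) (F.e t) else 0 := by
    intro s
    rw [← Finset.mul_sum]
    have : ∀ m : A, pw (-(dot m s)) * pw (dot m t) = pw (dot m (t - s)) := fun m => by
      rw [← pw_add, dot_sub', neg_add_eq_sub]
    simp only [this, pw_sum, sub_eq_zero, eq_comm (a := t)]
    split_ifs with h
    · rw [h]; ring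
    · simp
  rw [Finset.sum_congr rfl fun s _ => h s, Finset.sum_ite_eq' Finset.univ t]
  simp

theorem column (s t : A) (hs : s ≠ 0) [Fintype (Cfsg.IrrCharacter G)] :
    ∑ χ : Cfsg.IrrCharacter G, (χ : G → ℂ) (F.e s) * conj ((χ : G → ℂ) (F.e t)) =
      27 * ∑ v : Fin 4, if act v s = t then (1 : ℂ) else 0 := by
  classical
  rw [sum_irr_mul_conj, Finset.sum_boole]
  by_cases h : ∃ v, act v s = t
  · rw [if_pos ((conj_iff F hs t).2 h), card_cent F hs, ← card_trans s t h]
    push_cast
    rfl
  · rw [if_neg (fun h' => h ((conj_iff F hs t).1 h'))]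
    push Not at h
    simp [h]

theorem sum_pair (a a' b b' : A) [Fintype (Cfsg.IrrCharacter G)] :
    ∑ χ : Cfsg.IrrCharacter G, (mu F χ a - mu F χ a') * conj (mu F χ b - mu F χ b') =
      (gram a a' b b' : ℂ) := by
  classical
  have h0 : ∀ c c' : A, ∀ χ : Cfsg.IrrCharacter G, mu F χ c - mu F χ c' =
      (27 : ℂ)⁻¹ * ∑ t : A, (χ : G → ℂ) (F.e t) * (pw (-(dot c t)) - pw (-(dot c' t))) := by
    intro c c' χ
    rw [mu, mu, ← mul_sub, ← Finset.sum_sub_distrib]
    simp only [mul_sub]
  have h1 : ∀ χ : Cfsg.IrrCharacter G,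
      (mu F χ a - mu F χ a') * conj (mu F χ b - mu F χ b') =
      ∑ s : A, ∑ t : A, (27 : ℂ)⁻¹ * (27 : ℂ)⁻¹ *
        ((pw (-(dot a s)) - pw (-(dot a' s))) * (pw (dot b t) - pw (dot b' t))) *
          ((χ : G → ℂ) (F.e s) * conj ((χ : G → ℂ) (F.e t))) := by
    intro χ
    rw [h0, h0, map_mul, map_sum, map_inv₀, map_ofNat]
    simp only [map_mul, map_sub, pw_neg, Complex.conj_conj, Finset.mul_sum, Finset.sum_mul]
    rw [Finset.sum_comm]
    refine Finset.sum_congr rfl fun t _ => Finset.sum_congr rfl fun s _ => ?_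
    ring
  rw [Finset.sum_congr rfl fun χ _ => h1 χ, Finset.sum_comm,
    Finset.sum_congr rfl fun s _ => Finset.sum_comm]
  have h2 : ∀ s : A, ∀ t : A, ∑ χ : Cfsg.IrrCharacter G, (27 : ℂ)⁻¹ * (27 : ℂ)⁻¹ *
        ((pw (-(dot a s)) - pw (-(dot a' s))) * (pw (dot b t) - pw (dot b' t))) *
          ((χ : G → ℂ) (F.e s) * conj ((χ : G → ℂ) (F.e t))) =
      ∑ v : Fin 4, if act v s = t then (27 : ℂ)⁻¹ *
        ((pw (-(dot a s)) - pw (-(dot a' s))) * (pw (dot b t) - pw (dot b' t))) else 0 := by
    intro s t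
    rw [← Finset.mul_sum]
    by_cases hs : s = 0
    · subst hs
      simp [dot]
    · rw [column F s t hs, Finset.mul_sum, Finset.mul_sum]
      refine Finset.sum_congr rfl fun v _ => ?_
      split_ifs <;> ring
  rw [Finset.sum_congr rfl fun s _ => Finset.sum_congr rfl fun t _ => h2 s t,
    Finset.sum_congr rfl fun s _ => Finset.sum_comm, Finset.sum_comm, gram, Int.cast_sum]
  refine Finset.sum_congr rfl fun v _ => ?_
  simp only [Finset.sum_ite_eq, Finset.mem_univ, if_true, ← Finset.mul_sum]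
  have h3 : ∀ c d : A, ∑ s : A, pw (-(dot c s)) * pw (dot d (act v s)) =
      if act v d = c then 27 else 0 := by
    intro c d
    have : ∀ s : A, pw (-(dot c s)) * pw (dot d (act v s)) = pw (dot s (act v d - c)) := fun s => by
      rw [← pw_add, ← dot_act, neg_add_eq_sub, ← dot_sub, dot_comm]
    simp only [this, pw_sum, sub_eq_zero]
  simp only [sub_mul, mul_sub, Finset.sum_sub_distrib, h3]
  push_cast
  split_ifs <;> norm_num

theorem sum_degree_pair (a a' : A) [Fintype (Cfsg.IrrCharacter G)] :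
    ∑ χ : Cfsg.IrrCharacter G, (χ : G → ℂ) 1 * (mu F χ a - mu F χ a') = 0 := by
  classical
  simp only [mu, ← mul_sub, ← Finset.sum_sub_distrib, Finset.mul_sum]
  rw [Finset.sum_comm]
  refine Finset.sum_eq_zero fun t _ => ?_
  by_cases ht : t = 0
  · subst ht
    simp [dot]
  · have hne : F.e t ≠ 1 := fun h => ht (F.e_inj (h.trans (e_zero F).symm))
    have h := sum_degree_mul_apply (G := G) (F.e t)
    rw [if_neg hne] at h
    calc ∑ χ : Cfsg.IrrCharacter G, (χ : G → ℂ) 1 *
          ((27 : ℂ)⁻¹ * ((χ : G → ℂ) (F.e t) * (pw (-(dot a t)) - pw (-(dot a' t)))))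
        = (27 : ℂ)⁻¹ * (pw (-(dot a t)) - pw (-(dot a' t))) *
            ∑ χ : Cfsg.IrrCharacter G, (χ : G → ℂ) 1 * (χ : G → ℂ) (F.e t) := by
          rw [Finset.mul_sum]
          exact Finset.sum_congr rfl fun χ _ => by ring
      _ = 0 := by rw [h, mul_zero]

theorem mu_oneChar (m : A) : mu F (oneChar G) m = if m = 0 then 1 else 0 := by
  simp only [mu, oneChar_apply, one_mul]
  have : ∀ t : A, pw (-(dot m t)) = pw (dot t (-m)) := fun t => by
    simp only [dot, Prod.fst_neg, Prod.snd_neg]; congr 1; ring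
  simp only [this, pw_sum, neg_eq_zero]
  split_ifs <;> norm_num

theorem apply_eq_orbits (χ : Cfsg.IrrCharacter G) (t : A) :
    (χ : G → ℂ) (F.e t) = ∑ i : Fin 9, mu F χ (rep i) * toC (K i t) := by
  rw [apply_eq_mu F χ t, ← Finset.sum_fiberwise Finset.univ orb]
  refine Finset.sum_congr rfl fun i _ => ?_
  rw [K, toC_sum, Finset.mul_sum]
  refine Finset.sum_congr rfl fun m hm => ?_
  obtain ⟨v, hv⟩ := exists_act_rep m
  rw [(Finset.mem_filter.1 hm).2] at hv
  conv_lhs => rw [show mu F χ m = mu F χ (rep i) by rw [← hv, mu_act]]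
  rfl

end Cfsg.Agent.Lib.Fgs9.CubeFour
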