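import Cfsg.Agent.Lib.Fgs9.CubeFour.Model
import Cfsg.Agent.Lib.Fgs9.TriangleConstants
import Mathlib.GroupTheory.Nilpotent

/-!
# The local data of a group with a self-normalising `3³ : 2²`
-/

namespace Cfsg.Agent.Lib.Fgs9.CubeFour

universe u

theorem add3 : ∀ a : A, a + a + a = 0 := by decide +kernel

theorem mc : ∀ (a b : A), mulC (a, 0) (b, 0) = (a + b, 0) := by decide +kernel

theorem mc2 : ∀ (a : A) (v : Fin 4), mulC (a, 0) (0, v) = (a, v) := by decide +kernel

theorem mc3 : ∀ (a : A) (v : Fin 4),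
    mulC (0, v) (a, 0) = mulC (act v a, 0) (0, v) := by decide +kernel

variable {G : Type u} [Group G] [Finite G]

/-- The coordinates of the configuration in `G`. -/
structure Frame (G : Type u) [Group G] (H : Subgroup G) where
  /-- coordinates on the Sylow 3-subgroup -/
  e : A → G
  e_add : ∀ a b, e (a + b) = e a * e b
  e_inj : Function.Injective e
  mem_H : ∀ a, e a ∈ H
  /-- elements inducing the four sign changes -/
  f : Fin 4 → G
  f_mem : ∀ v, f v ∈ H
  f_conj : ∀ v a, f v * e a * (f v)⁻¹ = e (act v a)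
  surj : ∀ h ∈ H, ∃ a v, h = e a * f v
  uniq : ∀ a b v w, e a * f v = e b * f w → a = b ∧ v = w
  tmem : ∀ h ∈ H, h ^ 3 = 1 → ∃ a, h = e a
  cent : ∀ a, a ≠ 0 → Subgroup.centralizer ({e a} : Set G) ≤ H
  fusion : ∀ a, a ≠ 0 → ∀ b g, g * e a * g⁻¹ = e b → g ∈ H
  pgrp : ∀ a, a ≠ 0 → ∀ P : Subgroup G, IsPGroup 3 P → e a ∈ P → P ≤ H

theorem e_three {H : Subgroup G} (F : Frame G H) (a : A) : F.e a ^ 3 = 1 := by
  have h0 : F.e 0 = 1 := by
    have := F.e_add 0 0
    rwa [add_zero, left_eq_mul] at this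
  have : a + a + a = 0 := add3 a
  rw [pow_succ, pow_two, ← F.e_add, ← F.e_add, this, h0]

theorem e_zero {H : Subgroup G} (F : Frame G H) : F.e 0 = 1 := by
  have := F.e_add 0 0
  rwa [add_zero, left_eq_mul] at this

theorem e_neg {H : Subgroup G} (F : Frame G H) (a : A) : F.e (-a) = (F.e a)⁻¹ :=
  eq_inv_of_mul_eq_one_left (by rw [← F.e_add, neg_add_cancel, e_zero F])

/-- Existence of the frame. -/
theorem exists_frame (H : Subgroup G)
    (hH : Nonempty (↥H ≃* ↥(Subgroup.closure gens)))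
    (T : Subgroup G) (hTH : T ≤ H) (hT : Nat.card T = 27)
    (hN : Subgroup.normalizer (T : Set G) = H)
    (hC : ∀ t ∈ T, t ≠ 1 → Subgroup.centralizer ({t} : Set G) ≤ H) :
    Nonempty (Frame G H) := by
  haveI : Fact (Nat.Prime 3) := ⟨Nat.prime_three⟩
  rw [closure_gens] at hH
  obtain ⟨φ⟩ := hH
  let el : A × Fin 4 → G := fun p => ((φ.symm ⟨elt p, p, rfl⟩ : H) : G)
  have el_mul : ∀ p q, el p * el q = el (mulC p q) := by
    intro p q
    simp only [el, ← Subgroup.coe_mul, ← map_mul]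
    congr 2
    exact Subtype.ext (elt_mul p q)
  have el_inj : Function.Injective el := by
    intro p q h
    apply elt_injective
    have := φ.symm.injective (Subtype.ext h)
    exact Subtype.ext_iff.1 this
  have el_surj : ∀ h ∈ H, ∃ p, h = el p := by
    intro h hh
    obtain ⟨p, hp⟩ := (φ ⟨h, hh⟩).2
    refine ⟨p, ?_⟩
    have : (⟨elt p, p, rfl⟩ : model) = φ ⟨h, hh⟩ := Subtype.ext hp
    simp [el, this]
  have hcardH : Nat.card H = 108 := by rw [Nat.card_congr φ.toEquiv, model_card]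
  have hH108 : Nat.card H = 3 ^ 3 * 4 := by rw [hcardH]; rfl
  -- every 3-subgroup of H lies in T
  have key : ∀ P : Subgroup G, IsPGroup 3 P → P ≤ H → P ≤ T := by
    intro P hP hPH
    have hTp : IsPGroup 3 T := IsPGroup.of_card (n := 3) (by rw [hT]; rfl)
    have hPN : P ≤ Subgroup.normalizer (T : Set G) := hN ▸ hPH
    have hsup : IsPGroup 3 ↥(P ⊔ T) := IsPGroup.to_sup_of_normal_right' hP hTp hPN
    obtain ⟨n, hn⟩ := hsup.exists_card_eq
    have hdvd : Nat.card ↥(P ⊔ T) ∣ Nat.card H := Subgroup.card_dvd_of_le (sup_le hPH hTH)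
    rw [hn, hH108] at hdvd
    have h27 : 3 ^ n ∣ 3 ^ 3 := (Nat.Coprime.pow_left n (by norm_num)).dvd_of_dvd_mul_right hdvd
    have heq : T = P ⊔ T := Subgroup.eq_of_le_of_card_ge le_sup_right (by
      rw [hn, hT]; exact Nat.le_of_dvd (by norm_num) h27)
    rw [heq]; exact le_sup_left
  have el0 : el (0, 0) = 1 := by
    have := el_mul (0, 0) (0, 0)
    rwa [mc, add_zero, mul_eq_left] at this
  have e3 : ∀ a : A, el (a, 0) ^ 3 = 1 := by
    intro a
    have h3 : a + a + a = 0 := add3 a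
    rw [pow_succ, pow_two, el_mul, mc, el_mul, mc, h3, el0]
  have elT : ∀ a : A, el (a, 0) ∈ T := by
    intro a
    refine key (Subgroup.zpowers (el (a, 0))) ?_
      (Subgroup.zpowers_le.2 (SetLike.coe_mem _)) (Subgroup.mem_zpowers _)
    intro w
    refine ⟨1, ?_⟩
    obtain ⟨w, k, rfl⟩ := w
    apply Subtype.ext
    simp only [SubmonoidClass.coe_pow, OneMemClass.coe_one, pow_one]
    rw [← zpow_natCast, ← zpow_mul, mul_comm, zpow_mul, zpow_natCast, e3 a, one_zpow]
  have Tsurj : ∀ t ∈ T, ∃ a, t = el (a, 0) := by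
    intro t ht
    let g : A → T := fun a => ⟨el (a, 0), elT a⟩
    have ginj : Function.Injective g := by
      intro a b h
      have h' : (g a : G) = (g b : G) := congrArg (fun z : T => (z : G)) h
      exact (Prod.ext_iff.1 (el_inj h')).1
    have hbij := (Nat.bijective_iff_injective_and_card g).2 ⟨ginj, by rw [hT]; simp⟩
    obtain ⟨a, ha⟩ := hbij.2 ⟨t, ht⟩
    exact ⟨a, (Subtype.ext_iff.1 ha).symm⟩
  have tne : ∀ a : A, a ≠ 0 → el (a, 0) ≠ 1 := by
    intro a ha h
    rw [← el0] at h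
    exact ha (Prod.ext_iff.1 (el_inj h)).1
  have cent : ∀ a : A, a ≠ 0 → Subgroup.centralizer ({el (a, 0)} : Set G) ≤ H :=
    fun a ha => hC _ (elT a) (tne a ha)
  have hTp : IsPGroup 3 T := IsPGroup.of_card (n := 3) (by rw [hT]; rfl)
  have hTcomm : ∀ s ∈ T, ∀ t ∈ T, s * t = t * s := by
    intro s hs t ht
    obtain ⟨a, rfl⟩ := Tsurj s hs
    obtain ⟨b, rfl⟩ := Tsurj t ht
    rw [el_mul, el_mul, mc, mc, add_comm]
  obtain ⟨S, hTS⟩ := hTp.exists_le_sylow
  have hST : (S : Subgroup G) = T := by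
    apply le_antisymm _ hTS
    by_contra hnot
    have hlt : T.subgroupOf (S : Subgroup G) < ⊤ := by
      rw [lt_top_iff_ne_top]
      intro h
      exact hnot (Subgroup.subgroupOf_eq_top.1 h)
    haveI := S.isPGroup'.isNilpotent
    have hgt := Group.normalizerCondition_of_isNilpotent _ hlt
    obtain ⟨s, hs1, hs2⟩ := SetLike.exists_of_lt hgt
    have hsN : (s : G) ∈ Subgroup.normalizer (T : Set G) := by
      refine Subgroup.mem_normalizer_fintype fun t ht => ?_
      have := (Subgroup.mem_normalizer_iff.1 hs1 ⟨t, hTS ht⟩).1 (Subgroup.mem_subgroupOf.2 ht)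
      exact Subgroup.mem_subgroupOf.1 this
    rw [hN] at hsN
    apply hs2
    refine Subgroup.mem_subgroupOf.2 (key (Subgroup.zpowers (s : G)) ?_
      (Subgroup.zpowers_le.2 hsN) (Subgroup.mem_zpowers _))
    exact S.isPGroup'.to_le (Subgroup.zpowers_le.2 s.2)
  refine ⟨{
    e := fun a => el (a, 0)
    e_add := fun a b => by rw [el_mul, mc]
    e_inj := fun a b h => (Prod.ext_iff.1 (el_inj h)).1
    mem_H := fun a => SetLike.coe_mem _
    f := fun v => el (0, v)
    f_mem := fun v => SetLike.coe_mem _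
    f_conj := fun v a => by rw [mul_inv_eq_iff_eq_mul, el_mul, el_mul, mc3]
    surj := ?_
    uniq := ?_
    tmem := ?_
    cent := cent
    fusion := ?_
    pgrp := ?_ }⟩
  · intro h hh
    obtain ⟨⟨a, v⟩, rfl⟩ := el_surj h hh
    exact ⟨a, v, by rw [el_mul, mc2]⟩
  · intro a b v w h
    rw [el_mul, el_mul, mc2, mc2] at h
    exact Prod.ext_iff.1 (el_inj h)
  · intro h hh h3
    refine Tsurj h (key (Subgroup.zpowers h) ?_ (Subgroup.zpowers_le.2 hh) (Subgroup.mem_zpowers _))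
    intro w
    refine ⟨1, ?_⟩
    obtain ⟨w, k, rfl⟩ := w
    apply Subtype.ext
    simp only [SubmonoidClass.coe_pow, OneMemClass.coe_one, pow_one]
    rw [← zpow_natCast, ← zpow_mul, mul_comm, zpow_mul, zpow_natCast, h3, one_zpow]
  · intro a ha b g hg
    have hb : b ≠ 0 := by
      intro h
      rw [h, el0, conj_eq_one_iff] at hg
      exact tne a ha hg
    rw [← hN]
    refine Subgroup.mem_normalizer_fintype fun t ht => ?_
    have h1 : (T.map (MulAut.conj g).toMonoidHom) ≤ T := by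
      refine key _ (hTp.map _) ?_
      rintro w ⟨t, ht, rfl⟩
      refine cent b hb (Subgroup.mem_centralizer_singleton_iff.2 ?_)
      rw [← hg]
      simp only [MulEquiv.coe_toMonoidHom, MulAut.conj_apply]
      calc g * t * g⁻¹ * (g * el (a, 0) * g⁻¹) = g * (t * el (a, 0)) * g⁻¹ := by group
        _ = g * (el (a, 0) * t) * g⁻¹ := by rw [hTcomm t ht _ (elT a)]
        _ = _ := by group
    exact h1 ⟨t, ht, by simp⟩
  · intro a ha P hP haP
    obtain ⟨Q, hPQ⟩ := hP.exists_le_sylow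
    obtain ⟨g, hg⟩ := MulAction.exists_smul_eq G S Q
    intro p hp
    refine cent a ha (Subgroup.mem_centralizer_singleton_iff.2 ?_)
    have hQ : ∀ w ∈ (Q : Subgroup G), ∃ t ∈ T, w = g * t * g⁻¹ := by
      intro w hw
      rw [← hg, Sylow.coe_subgroup_smul, Subgroup.mem_pointwise_smul_iff_inv_smul_mem, hST] at hw
      refine ⟨_, hw, ?_⟩
      simp [mul_assoc]
    obtain ⟨s, hs, es⟩ := hQ p (hPQ hp)
    obtain ⟨t, ht, et⟩ := hQ _ (hPQ haP)
    rw [es, et]
    calc g * s * g⁻¹ * (g * t * g⁻¹) = g * (s * t) * g⁻¹ := by group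
      _ = g * (t * s) * g⁻¹ := by rw [hTcomm s hs t ht]
      _ = _ := by group

variable {H : Subgroup G} (F : Frame G H)

theorem conj_iff {a : A} (ha : a ≠ 0) (b : A) :
    IsConj (F.e a) (F.e b) ↔ ∃ v, act v a = b := by
  constructor
  · intro h
    obtain ⟨g, hg⟩ := isConj_iff.1 h
    obtain ⟨c, v, rfl⟩ := F.surj g (F.fusion a ha b g hg)
    refine ⟨v, F.e_inj ?_⟩
    rw [← hg]
    calc F.e (act v a) = F.e c * F.e (act v a) * (F.e c)⁻¹ := by
          rw [← F.e_add, ← e_neg F, ← F.e_add, add_comm c, add_assoc, add_neg_cancel, add_zero]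
      _ = _ := by rw [← F.f_conj]; group
  · rintro ⟨v, rfl⟩
    exact isConj_iff.2 ⟨F.f v, F.f_conj v a⟩

theorem conj_ef (c : A) (v : Fin 4) (a : A) :
    F.e c * F.f v * F.e a * (F.e c * F.f v)⁻¹ = F.e (act v a) := by
  calc F.e c * F.f v * F.e a * (F.e c * F.f v)⁻¹
      = F.e c * (F.f v * F.e a * (F.f v)⁻¹) * (F.e c)⁻¹ := by group
    _ = _ := by
      rw [F.f_conj, ← e_neg F, ← F.e_add, ← F.e_add]
      congr 1
      abel

theorem card_cent {a : A} (ha : a ≠ 0) :
    Nat.card (Subgroup.centralizer ({F.e a} : Set G)) =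
      27 * (Finset.univ.filter fun v => act v a = a).card := by
  let g : {p : A × Fin 4 // act p.2 a = a} → Subgroup.centralizer ({F.e a} : Set G) := fun p =>
    ⟨F.e p.1.1 * F.f p.1.2, Subgroup.mem_centralizer_singleton_iff.2 (by
      have h := conj_ef F p.1.1 p.1.2 a
      rw [p.2, mul_inv_eq_iff_eq_mul] at h
      exact h)⟩
  have hbij : Function.Bijective g := by
    constructor
    · rintro ⟨⟨b, v⟩, hp⟩ ⟨⟨c, w⟩, hq⟩ h
      obtain ⟨h1, h2⟩ := F.uniq b c v w (Subtype.ext_iff.1 h)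
      subst h1; subst h2; rfl
    · rintro ⟨x, hx⟩
      obtain ⟨b, v, rfl⟩ := F.surj x (F.cent a ha hx)
      refine ⟨⟨(b, v), F.e_inj ?_⟩, rfl⟩
      show F.e (act v a) = F.e a
      rw [← conj_ef F b v a, mul_inv_eq_iff_eq_mul]
      exact Subgroup.mem_centralizer_singleton_iff.1 hx
  rw [← Nat.card_congr (_root_.Equiv.ofBijective g hbij), Nat.card_eq_fintype_card,
    Fintype.card_subtype]
  have : (Finset.univ.filter fun p : A × Fin 4 => act p.2 a = a) =
      (Finset.univ : Finset A) ×ˢ (Finset.univ.filter fun v => act v a = a) := by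
    ext p; simp
  rw [this, Finset.card_product]
  rfl

theorem card_triple {a b c : A} (hb : b ≠ 0) (hc : c ≠ 0) (ha : a ≠ 0)
    (hne : ∀ v, act v b ≠ -c) :
    Nat.card {g : G // IsConj (F.e a * (g * F.e b * g⁻¹)) (F.e c)} =
      27 * (Finset.univ.filter fun v => ∃ w, act w c = a + act v b).card := by
  have inH : ∀ g : G, IsConj (F.e a * (g * F.e b * g⁻¹)) (F.e c) → g ∈ H := by
    intro g hg
    obtain ⟨k, hk⟩ := isConj_iff.1 hg
    have hnc : ¬ IsConj (k * (g * F.e b * g⁻¹) * k⁻¹) (F.e c)⁻¹ := by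
      intro h
      rw [← e_neg F] at h
      have hb2 : IsConj (F.e b) (k * (g * F.e b * g⁻¹) * k⁻¹) :=
        isConj_iff.2 ⟨k * g, by group⟩
      obtain ⟨v, hv⟩ := (conj_iff F hb _).1 (hb2.trans h)
      exact hne v hv
    have hx3 : (k * F.e a * k⁻¹) ^ 3 = 1 := by
      rw [conj_pow, e_three F, mul_one, mul_inv_cancel]
    have hy3 : (k * (g * F.e b * g⁻¹) * k⁻¹) ^ 3 = 1 := by
      rw [conj_pow, conj_pow, e_three F, mul_one, mul_inv_cancel, mul_one, mul_inv_cancel]
    have hxy : k * F.e a * k⁻¹ * (k * (g * F.e b * g⁻¹) * k⁻¹) = F.e c := by rw [← hk]; group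
    let J : Subgroup G :=
      { carrier := Set.range F.e
        mul_mem' := by rintro _ _ ⟨p, rfl⟩ ⟨q, rfl⟩; exact ⟨_, F.e_add p q⟩
        one_mem' := ⟨0, e_zero F⟩
        inv_mem' := by rintro _ ⟨p, rfl⟩; exact ⟨_, e_neg F p⟩ }
    obtain ⟨hxH, hyH⟩ := Cfsg.Agent.Lib.Fgs9.TriangleConstants.mem_of_triangle H J hx3 hy3
      (e_three F c) hxy ⟨c, rfl⟩ (F.pgrp c hc)
      (fun w hw hcj => by
        have h3 : w ^ 3 = 1 := by
          obtain ⟨t, rfl⟩ := isConj_iff.1 hcj
          rw [conj_pow, hy3, mul_one, mul_inv_cancel]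
        obtain ⟨p, rfl⟩ := F.tmem w hw h3
        exact ⟨p, rfl⟩)
      (by
        rintro j ⟨p, rfl⟩ hj
        exact F.cent p (fun h => hj (by rw [h, e_zero F])))
      hnc
    obtain ⟨p, hp⟩ := F.tmem _ hxH hx3
    have hkH : k ∈ H := F.fusion a ha p k hp
    obtain ⟨q, hq⟩ := F.tmem _ hyH hy3
    have hkgH : k * g ∈ H := F.fusion b hb q (k * g) (by rw [← hq]; group)
    have : g = k⁻¹ * (k * g) := by group
    rw [this]
    exact mul_mem (inv_mem hkH) hkgH
  let g' : {p : A × Fin 4 // ∃ w, act w c = a + act p.2 b} →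
      {g : G // IsConj (F.e a * (g * F.e b * g⁻¹)) (F.e c)} := fun p =>
    ⟨F.e p.1.1 * F.f p.1.2, by
      rw [conj_ef F, ← F.e_add]
      obtain ⟨w, hw⟩ := p.2
      exact ((conj_iff F hc _).2 ⟨w, hw⟩).symm⟩
  have hbij : Function.Bijective g' := by
    constructor
    · rintro ⟨⟨p, v⟩, hp⟩ ⟨⟨q, w⟩, hq⟩ h
      obtain ⟨h1, h2⟩ := F.uniq p q v w (Subtype.ext_iff.1 h)
      subst h1; subst h2; rfl
    · rintro ⟨x, hx⟩
      obtain ⟨p, v, rfl⟩ := F.surj x (inH x hx)
      rw [conj_ef F, ← F.e_add] at hx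
      exact ⟨⟨(p, v), (conj_iff F hc _).1 hx.symm⟩, rfl⟩
  rw [← Nat.card_congr (_root_.Equiv.ofBijective g' hbij), Nat.card_eq_fintype_card,
    Fintype.card_subtype]
  have : (Finset.univ.filter fun p : A × Fin 4 => ∃ w, act w c = a + act p.2 b) =
      (Finset.univ : Finset A) ×ˢ
        (Finset.univ.filter fun v => ∃ w, act w c = a + act v b) := by
    ext p; simp
  rw [this, Finset.card_product]
  rfl

include F in
theorem card_H : Nat.card H = 108 := by
  let g : A × Fin 4 → H := fun p => ⟨F.e p.1 * F.f p.2, mul_mem (F.mem_H _) (F.f_mem _)⟩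
  have hbij : Function.Bijective g := by
    constructor
    · rintro ⟨p, v⟩ ⟨q, w⟩ h
      obtain ⟨h1, h2⟩ := F.uniq p q v w (Subtype.ext_iff.1 h)
      rw [h1, h2]
    · rintro ⟨x, hx⟩
      obtain ⟨p, v, rfl⟩ := F.surj x hx
      exact ⟨(p, v), rfl⟩
  rw [← Nat.card_congr (_root_.Equiv.ofBijective g hbij)]
  simp

end Cfsg.Agent.Lib.Fgs9.CubeFour
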