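import Cfsg.Agent.Lib.Fgs9.CubeFour.Fourier
import Cfsg.Agent.Lib.Fgs9.CubeFour.Exceptional
import Cfsg.Agent.Lib.H80.ClassMult

/-!
# A group with a self-normalising TI subgroup `3³` with automiser `2²` equals the normaliser
-/

namespace Cfsg.Agent.Lib.Fgs9.CubeFour

open Cfsg.Agent.Lib.Characters.Basic Cfsg.Agent.Lib.Characters.Complete
open scoped ComplexConjugate

/-- The five exceptional orbits. -/
def five : Fin 5 → Fin 9 := ![4, 5, 6, 7, 8]

theorem gram_five : ∀ a b : Fin 4, gram (rep 4) (rep (five a.succ)) (rep 4) (rep (five b.succ)) =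
    if a = b then 2 else 1 := by decide +kernel

theorem gram_cross : ∀ w : Fin 9, w.val < 4 → ∀ a : Fin 4,
    gram (rep w) (rep 8) (rep 4) (rep (five a.succ)) = if a = 3 then 1 else 0 := by decide +kernel

theorem gram_self : ∀ w : Fin 9, w.val < 4 →
    gram (rep w) (rep 8) (rep w) (rep 8) = if w = 0 then 5 else 3 := by decide +kernel

theorem orbit_cases : ∀ i : Fin 9, i.val < 4 ∨ ∃ j, i = five j := by decide +kernel

theorem five_not_small : ∀ j : Fin 5, ¬ (five j).val < 4 := by decide +kernel

theorem five_injective : Function.Injective five := by decide +kernel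

theorem rep_eq_zero : ∀ i : Fin 9, rep i = 0 ↔ i = 0 := by decide +kernel

/-- The four first arguments. -/
def xs : Fin 4 → A := ![(0, 0, 2), (0, 2, 1), (2, 0, 1), (2, 2, 2)]

/-- Their coefficients. -/
def cs : Fin 4 → ℤ := ![1, -1, -1, 1]

/-- The second argument. -/
def ys : Fin 4 → A := fun _ => (1, 1, 1)

/-- The combination of orbit sums. -/
def dK (i : Fin 9) : ℤ × ℤ := ∑ k : Fin 4, cs k • K i (xs k)

theorem dK_small : ∀ i : Fin 9, i.val < 4 → dK i = (0, 0) := by decide +kernel

theorem dK_five : ∑ j : Fin 5, dK (five j) = (0, 0) := by decide +kernel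

theorem K_total : ∀ t : A, t ≠ 0 → ∑ i : Fin 9, K i t = (0, 0) := by decide +kernel

theorem triple_five : ∑ j : Fin 5, emul (emul (dK (five j)) (K (five j) (1, 1, 1)))
    (econj (K (five j) (1, 1, 0))) = (27, 0) := by decide +kernel

theorem triple_count : ∑ k : Fin 4, cs k *
    ((Finset.univ.filter fun v => ∃ w, act w ((1, 1, 0) : A) = xs k + act v (1, 1, 1)).card : ℤ) =
      1 := by decide +kernel

theorem cent_z : (Finset.univ.filter fun v => act v ((1, 1, 0) : A) = (1, 1, 0)).card = 1 := by
  decide +kernel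

theorem xs_ne : ∀ k, xs k ≠ 0 := by decide +kernel

theorem not_neg : ∀ v, act v ((1, 1, 1) : A) ≠ -(1, 1, 0) := by decide +kernel

theorem toC_zero : toC (0, 0) = 0 := by simp [toC]

theorem toC_zsmul (n : ℤ) (p : ℤ × ℤ) : toC (n • p) = (n : ℂ) * toC p := by
  simp only [toC, Prod.smul_fst, Prod.smul_snd, smul_eq_mul]
  push_cast
  ring

universe u
variable {G : Type u} [Group G] [Fintype G] {H : Subgroup G}

/-- The main result. -/
theorem eq_top_of_frame (F : Frame G H) : H = ⊤ := by
  classical
  letI := Fintype.ofFinite (Cfsg.IrrCharacter G)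
  choose n hn using fun (χ : Cfsg.IrrCharacter G) (i : Fin 9) => exists_mu_int F χ (rep i)
  choose d hd hd1 using fun χ : Cfsg.IrrCharacter G => exists_degree_pos χ
  have hpair : ∀ i i' j j' : Fin 9,
      ∑ χ, (n χ i - n χ i') * (n χ j - n χ j') = gram (rep i) (rep i') (rep j) (rep j') := by
    intro i i' j j'
    have h := sum_pair F (rep i) (rep i') (rep j) (rep j')
    simp only [hn, map_sub, map_intCast] at h
    exact_mod_cast h
  have hdeg : ∀ i i' : Fin 9, ∑ χ, (d χ : ℤ) * (n χ i - n χ i') = 0 := by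
    intro i i'
    have h := sum_degree_pair F (rep i) (rep i')
    simp only [hn, hd1] at h
    exact_mod_cast h
  obtain ⟨ε, x, hε, hxinj, hxd, hD⟩ := exists_exceptional
    (fun (a : Fin 4) χ => n χ 4 - n χ (five a.succ)) d hd
    (fun a b => by rw [hpair, gram_five]) (fun a => hdeg _ _)
  have hε2 : ε * ε = 1 := by rcases hε with h | h <;> rw [h] <;> rfl
  obtain ⟨base, hbase⟩ : ∃ b, b = fun χ : Cfsg.IrrCharacter G =>
      n χ 4 - ε * (if χ = x 0 then 1 else 0) := ⟨_, rfl⟩
  have hfive : ∀ j χ, n χ (five j) = base χ + ε * (if χ = x j then 1 else 0) := by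
    intro j χ
    induction j using Fin.cases with
    | zero => rw [hbase]; show n χ 4 = _; ring
    | succ a =>
      have h := hD a χ
      simp only [dvec] at h
      rw [hbase]
      linear_combination (-1 : ℤ) * h
  have htriv : ∀ j, x j ≠ oneChar G := by
    have h0 : ∀ j, n (oneChar G) (five j) = 0 := by
      intro j
      have h := (hn (oneChar G) (five j)).symm.trans (mu_oneChar F (rep (five j)))
      rw [if_neg (fun e => five_not_small j (by rw [(rep_eq_zero _).1 e]; decide))] at h
      exact_mod_cast h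
    have hall : ∀ a, dvec (x 0) (x (Fin.succ a)) (oneChar G) = 0 := by
      intro a
      have h := hD a (oneChar G)
      rw [h0 a.succ, show n (oneChar G) 4 = 0 from h0 0, sub_zero] at h
      rcases hε with e | e <;> rw [e] at h <;> omega
    intro j hj
    induction j using Fin.cases with
    | zero =>
      have h := hall 0
      rw [dvec, if_pos hj.symm, if_neg] at h
      · exact one_ne_zero h
      · exact fun e => Fin.succ_ne_zero 0 (hxinj (e.symm.trans hj.symm))
    | succ a =>
      have h := hall a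
      rw [dvec, if_neg, if_pos hj.symm] at h
      · omega
      · exact fun e => Fin.succ_ne_zero a (hxinj (hj.trans e))
  have hsub : ∀ (f : Cfsg.IrrCharacter G → ℤ), (∀ χ, 0 ≤ f χ) → ∑ j, f (x j) ≤ ∑ χ, f χ := by
    intro f hf
    rw [← Finset.sum_image (fun a _ b _ h => hxinj h)]
    exact Finset.sum_le_univ_sum_of_nonneg hf
  -- the small multiplicities
  have hsmall : ∀ w : Fin 9, w.val < 4 → ∀ j, n (x j) w = base (x j) := by
    intro w hw
    have hu : ∀ χ, n χ w - n χ 8 =
        n χ w - base χ - ε * (if χ = x 4 then 1 else 0) := by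
      intro χ
      rw [show n χ 8 = _ from hfive 4 χ]
      ring
    have hux : ∀ j : Fin 5, n (x j) w - n (x j) 8 =
        n (x j) w - base (x j) - ε * (if j = 4 then 1 else 0) := by
      intro j
      rw [hu]
      congr 2
      exact if_congr hxinj.eq_iff rfl rfl
    have hq : ∀ a : Fin 4, n (x a.succ) w - base (x a.succ) = n (x 0) w - base (x 0) := by
      intro a
      have h := hpair w 8 4 (five a.succ)
      rw [gram_cross w hw a] at h
      simp only [fun χ => hD a χ, dvec, mul_sub, mul_ite, mul_one, mul_zero,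
        Finset.sum_sub_distrib, Finset.sum_ite_eq', Finset.mem_univ, if_true] at h
      rw [hux 0, hux a.succ] at h
      have e0 : ((0 : Fin 5) = 4) = False := by simp
      have ea : (a.succ = (4 : Fin 5)) ↔ a = 3 := by fin_cases a <;> decide
      simp only [e0, if_false, ea, mul_zero, sub_zero] at h
      rcases hε with e | e <;> rw [e] at h <;> split_ifs at h <;> linarith
    obtain ⟨q, hqdef⟩ : ∃ q, q = n (x 0) w - base (x 0) := ⟨_, rfl⟩
    have hqall : ∀ j, n (x j) w - base (x j) = q := by
      intro j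
      induction j using Fin.cases with
      | zero => exact hqdef.symm
      | succ a => rw [hq a, hqdef]
    suffices q = 0 by intro j; have := hqall j; omega
    have hfivesum : ∑ j : Fin 5, (n (x j) w - n (x j) 8) * (n (x j) w - n (x j) 8) =
        4 * (q * q) + (q - ε) * (q - ε) := by
      simp only [hux, hqall, Fin.sum_univ_five]
      simp
      ring
    have hnorm := hpair w 8 w 8
    rw [gram_self w hw] at hnorm
    by_cases hw0 : w = 0
    · subst hw0
      rw [if_pos rfl] at hnorm
      have ht : n (oneChar G) 0 - n (oneChar G) 8 = 1 := by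
        have h1 := (hn (oneChar G) 0).symm.trans (mu_oneChar F (rep 0))
        have h2 := (hn (oneChar G) 8).symm.trans (mu_oneChar F (rep 8))
        rw [if_pos ((rep_eq_zero 0).2 rfl)] at h1
        rw [if_neg (by decide)] at h2
        have h1' : n (oneChar G) 0 = 1 := by exact_mod_cast h1
        have h2' : n (oneChar G) 8 = 0 := by exact_mod_cast h2
        omega
      have hnot : oneChar G ∉ Finset.univ.image x := by
        simp only [Finset.mem_image, Finset.mem_univ, true_and, not_exists]
        exact fun j => htriv j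
      by_contra hq0
      have h5 : ∑ χ ∈ insert (oneChar G) (Finset.univ.image x),
          (n χ 0 - n χ 8) * (n χ 0 - n χ 8) = 1 + (4 * (q * q) + (q - ε) * (q - ε)) := by
        rw [Finset.sum_insert hnot, ht, Finset.sum_image (fun a _ b _ h => hxinj h), hfivesum]
        ring
      have hle : 1 + (4 * (q * q) + (q - ε) * (q - ε)) ≤ 5 := by
        rw [← h5, ← hnorm]
        exact Finset.sum_le_univ_sum_of_nonneg fun χ => mul_self_nonneg _
      have hqq : q * q = 1 := by
        have : 1 ≤ q * q := by
          rcases lt_or_gt_of_ne hq0 with h | h <;> nlinarith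
        nlinarith [mul_self_nonneg (q - ε)]
      have hqe : q - ε = 0 := by nlinarith [mul_self_nonneg (q - ε)]
      have hrest : ∀ χ ∉ insert (oneChar G) (Finset.univ.image x), n χ 0 - n χ 8 = 0 := by
        intro χ hχ
        by_contra hne
        have h1 : 1 ≤ (n χ 0 - n χ 8) * (n χ 0 - n χ 8) := by
          rcases lt_or_gt_of_ne hne with h | h <;> nlinarith
        have h2 := Finset.sum_le_univ_sum_of_nonneg
          (s := insert χ (insert (oneChar G) (Finset.univ.image x)))
          (f := fun χ => (n χ 0 - n χ 8) * (n χ 0 - n χ 8)) (fun χ => mul_self_nonneg _)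
        rw [Finset.sum_insert hχ, h5, hnorm] at h2
        nlinarith
      have hz := hdeg 0 8
      rw [← Finset.sum_subset (Finset.subset_univ (insert (oneChar G) (Finset.univ.image x)))
        (fun χ _ hχ => by rw [hrest χ hχ, mul_zero]), Finset.sum_insert hnot, ht,
        Finset.sum_image (fun a _ b _ h => hxinj h)] at hz
      have hd0 : d (oneChar G) = 1 := by
        have h := hd1 (oneChar G)
        rw [oneChar_apply] at h
        exact_mod_cast h.symm
      simp only [hux, hqall, hxd, hd0, Fin.sum_univ_five] at hz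
      simp at hz
      have := hd (x 0)
      have hqe' : q = ε := by omega
      rw [hqe'] at hz
      rcases hε with e | e <;> rw [e] at hz <;> omega
    · rw [if_neg hw0] at hnorm
      have hle : 4 * (q * q) + (q - ε) * (q - ε) ≤ 3 := by
        rw [← hfivesum, ← hnorm]
        exact hsub (fun χ => (n χ w - n χ 8) * (n χ w - n χ 8)) fun χ => mul_self_nonneg _
      by_contra hq0
      have : 1 ≤ q * q := by
        rcases lt_or_gt_of_ne hq0 with h | h <;> nlinarith
      nlinarith [mul_self_nonneg (q - ε)]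
  have hval : ∀ (χ : Cfsg.IrrCharacter G) (t : A), (χ : G → ℂ) (F.e t) = ∑ i : Fin 9, (n χ i : ℂ) * toC (K i t) := by
    intro χ t
    rw [apply_eq_orbits F χ t]
    simp only [hn]
  have hexc : ∀ (j : Fin 5) (t : A), t ≠ 0 →
      ((x j : Cfsg.IrrCharacter G) : G → ℂ) (F.e t) = (ε : ℂ) * toC (K (five j) t) := by
    intro j t ht
    have hni : ∀ i, n (x j) i = base (x j) + ε * (if i = five j then 1 else 0) := by
      intro i
      rcases orbit_cases i with hi | ⟨k, rfl⟩
      · rw [hsmall i hi j, if_neg (fun e => five_not_small j (by rw [← e]; exact hi)), mul_zero, add_zero]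
      · rw [hfive k]
        congr 2
        exact if_congr (by rw [hxinj.eq_iff, five_injective.eq_iff]; exact eq_comm) rfl rfl
    rw [hval]
    simp only [hni]
    push_cast
    simp only [add_mul, Finset.sum_add_distrib, ← Finset.mul_sum, ← toC_sum, K_total t ht,
      toC_zero, mul_zero, zero_add, mul_ite, mul_one, ite_mul, zero_mul, Finset.sum_ite_eq',
      Finset.mem_univ, if_true]
  obtain ⟨Δ, hΔ⟩ : ∃ Δ, Δ = fun χ : Cfsg.IrrCharacter G =>
      ∑ k : Fin 4, (cs k : ℂ) * (χ : G → ℂ) (F.e (xs k)) := ⟨_, rfl⟩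
  have hΔ' : ∀ χ, Δ χ = ∑ i : Fin 9, (n χ i : ℂ) * toC (dK i) := by
    intro χ
    rw [hΔ]
    simp only [hval, Finset.mul_sum, dK, toC_sum, toC_zsmul]
    rw [Finset.sum_comm]
    exact Finset.sum_congr rfl fun i _ => Finset.sum_congr rfl fun k _ => by ring
  have hzero : ∀ χ ∉ Finset.univ.image x, Δ χ = 0 := by
    intro χ hχ
    have hχ' : ∀ j, χ ≠ x j := fun j e => hχ (Finset.mem_image.2 ⟨j, Finset.mem_univ _, e.symm⟩)
    rw [hΔ', ← Finset.sum_subset (Finset.subset_univ (Finset.univ.image five))]
    · rw [Finset.sum_image (fun a _ b _ h => five_injective h)]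
      simp only [hfive, if_neg (hχ' _), mul_zero, add_zero, ← Finset.mul_sum, ← toC_sum, dK_five,
        toC_zero]
    · intro i _ hi
      rcases orbit_cases i with hi' | ⟨j, rfl⟩
      · rw [dK_small i hi', toC_zero, mul_zero]
      · exact absurd (Finset.mem_image_of_mem five (Finset.mem_univ j)) hi
  have hΔx : ∀ j, Δ (x j) = (ε : ℂ) * toC (dK (five j)) := by
    intro j
    rw [hΔ]
    simp only [hexc j _ (xs_ne _), dK, toC_sum, toC_zsmul, Finset.mul_sum]
    exact Finset.sum_congr rfl fun k _ => by ring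
  let y : A := (1, 1, 1)
  let z : A := (1, 1, 0)
  have hy : y ≠ 0 := by decide
  have hz : z ≠ 0 := by decide
  have hLHS : (Nat.card G : ℂ) * ∑ χ : Cfsg.IrrCharacter G,
      Δ χ * (χ : G → ℂ) (F.e y) * conj ((χ : G → ℂ) (F.e z)) / (χ : G → ℂ) 1 = 729 := by
    rw [hΔ]
    simp only [Finset.sum_mul, Finset.sum_div]
    rw [Finset.sum_comm, Finset.mul_sum]
    have hk : ∀ k, (Nat.card G : ℂ) * ∑ χ : Cfsg.IrrCharacter G,
        (cs k : ℂ) * (χ : G → ℂ) (F.e (xs k)) * (χ : G → ℂ) (F.e y) *
          conj ((χ : G → ℂ) (F.e z)) / (χ : G → ℂ) 1 =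
        729 * ((cs k * ((Finset.univ.filter fun v =>
          ∃ w, act w z = xs k + act v y).card : ℤ) : ℤ) : ℂ) := by
      intro k
      have h := TriangleConstants.card_mul_sum (F.e (xs k)) (F.e y) (F.e z)
      rw [card_triple F hy hz (xs_ne k) not_neg, card_cent F hz, cent_z] at h
      push_cast at h ⊢
      calc _ = (cs k : ℂ) * ((Nat.card G : ℂ) * ∑ χ : Cfsg.IrrCharacter G,
          (χ : G → ℂ) (F.e (xs k)) * (χ : G → ℂ) (F.e y) *
            conj ((χ : G → ℂ) (F.e z)) / (χ : G → ℂ) 1) := by
            simp only [Finset.mul_sum]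
            exact Finset.sum_congr rfl fun χ _ => by ring
        _ = _ := by rw [h]; ring
    rw [Finset.sum_congr rfl fun k _ => hk k, ← Finset.mul_sum, ← Int.cast_sum]
    rw [triple_count]
    norm_num
  have hRHS : ∑ χ : Cfsg.IrrCharacter G,
      Δ χ * (χ : G → ℂ) (F.e y) * conj ((χ : G → ℂ) (F.e z)) / (χ : G → ℂ) 1 =
      (ε : ℂ) * 27 / (d (x 0) : ℂ) := by
    rw [← Finset.sum_subset (Finset.subset_univ (Finset.univ.image x))
      (fun χ _ hχ => by rw [hzero χ hχ]; simp), Finset.sum_image (fun a _ b _ h => hxinj h)]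
    have hterm : ∀ j, Δ (x j) * ((x j : Cfsg.IrrCharacter G) : G → ℂ) (F.e y) *
        conj (((x j : Cfsg.IrrCharacter G) : G → ℂ) (F.e z)) /
          ((x j : Cfsg.IrrCharacter G) : G → ℂ) 1 =
        ((ε * ε * ε : ℤ) : ℂ) / (d (x 0) : ℂ) *
          toC (emul (emul (dK (five j)) (K (five j) y)) (econj (K (five j) z))) := by
      intro j
      rw [hΔx j, hexc j y hy, hexc j z hz, hd1, hxd j, map_mul, map_intCast, toC_mul, toC_mul,
        toC_conj]
      push_cast
      ring
    rw [Finset.sum_congr rfl fun j _ => hterm j, ← Finset.mul_sum, ← toC_sum, triple_five, hε2,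
      one_mul]
    simp [toC]
    ring
  rw [hRHS] at hLHS
  have hdpos := hd (x 0)
  have hdne : (d (x 0) : ℂ) ≠ 0 := Nat.cast_ne_zero.2 hdpos.ne'
  rw [← mul_div_assoc, div_eq_iff hdne] at hLHS
  have hint : (Nat.card G : ℤ) * (ε * 27) = 729 * (d (x 0) : ℤ) := by exact_mod_cast hLHS
  have hGpos : (0 : ℤ) < Nat.card G := by exact_mod_cast Nat.card_pos
  have hε1 : ε = 1 := by
    rcases hε with e | e
    · exact e
    · rw [e] at hint; omega
  rw [hε1] at hint
  have hsq : 5 * ((d (x 0) : ℤ) * d (x 0)) ≤ Nat.card G := by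
    have h := finsum_degree_sq (G := G)
    rw [finsum_eq_sum_of_fintype] at h
    simp only [hd1] at h
    have h' : ∑ χ, (d χ : ℤ) ^ 2 = (Nat.card G : ℤ) := by exact_mod_cast h
    rw [← h']
    have := hsub (fun χ => (d χ : ℤ) ^ 2) (fun χ => sq_nonneg _)
    simp only [hxd, Finset.sum_const, Finset.card_univ, Fintype.card_fin, nsmul_eq_mul] at this
    push_cast at this
    nlinarith
  have hd5 : d (x 0) ≤ 5 := by nlinarith
  have hdvd : 108 ∣ Nat.card G := card_H F ▸ Subgroup.card_subgroup_dvd_card H
  have hG : Nat.card G = 108 := by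
    obtain ⟨c, hc⟩ := hdvd
    have hcpos : 0 < Nat.card G := Nat.card_pos
    omega
  exact Subgroup.eq_top_of_card_eq H (by rw [card_H F, hG])

end Cfsg.Agent.Lib.Fgs9.CubeFour
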