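import Mathlib.GroupTheory.Perm.Basic
import Mathlib.GroupTheory.Perm.Sign
import Mathlib.Data.ZMod.Basic
import Mathlib.Data.Fin.VecNotation
import Mathlib.Tactic.FinCases
import Mathlib.Tactic.DeriveFintype
import Mathlib.Algebra.Group.Subgroup.Finite

/-!
# The group `3³ : 2²` inside `Sym(9)`

Coordinates: `elt (a, v) = emb a * vv v`, where `emb` embeds `F₃³` and `vv` runs over the four
products of an even number of the three coordinate inversions.
-/

namespace Cfsg.Agent.Lib.Fgs9.CubeFour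

open Equiv

/-- The space `F₃³`. -/
abbrev A : Type := ZMod 3 × ZMod 3 × ZMod 3

/-- The four sign vectors with product one. -/
def sgv : Fin 4 → A := ![(1, 1, 1), (2, 2, 1), (2, 1, 2), (1, 2, 2)]

/-- The action of the four-group. -/
def act (v : Fin 4) (a : A) : A := sgv v * a

/-- The dot product. -/
def dot (a b : A) : ZMod 3 := a.1 * b.1 + a.2.1 * b.2.1 + a.2.2 * b.2.2

/-- The embedding of `F₃³` as the group generated by three disjoint 3-cycles. -/
def emb (a : A) : Perm (Fin 9) :=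
  (swap (0 : Fin 9) 1 * swap 1 2) ^ a.1.val * (swap (3 : Fin 9) 4 * swap 4 5) ^ a.2.1.val *
    (swap (6 : Fin 9) 7 * swap 7 8) ^ a.2.2.val

/-- The four coordinate inversions. -/
def vv : Fin 4 → Perm (Fin 9) :=
  ![1, swap (0 : Fin 9) 1 * swap 3 4, swap (0 : Fin 9) 1 * swap 6 7,
    swap (3 : Fin 9) 4 * swap 6 7]

/-- The elements of the model. -/
def elt (p : A × Fin 4) : Perm (Fin 9) := emb p.1 * vv p.2

/-- The generators appearing in the statement. -/
abbrev gens : Set (Perm (Fin 9)) :=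
  {swap (0 : Fin 9) 1 * swap 1 2, swap (3 : Fin 9) 4 * swap 4 5, swap (6 : Fin 9) 7 * swap 7 8,
    swap (0 : Fin 9) 1 * swap 3 4, swap (0 : Fin 9) 1 * swap 6 7}

/-- The same generators as a finset of model coordinates. -/
def genCoord : Fin 5 → A × Fin 4 :=
  ![((1, 0, 0), 0), ((0, 1, 0), 0), ((0, 0, 1), 0), ((0, 0, 0), 1), ((0, 0, 0), 2)]

/-- The product in the model. -/
def mulC (p q : A × Fin 4) : A × Fin 4 :=
  (p.1 + act p.2 q.1,
    (![![0, 1, 2, 3], ![1, 0, 3, 2], ![2, 3, 0, 1], ![3, 2, 1, 0]] : Fin 4 → Fin 4 → Fin 4)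
      p.2 q.2)

theorem emb_add : ∀ a b : A, emb (a + b) = emb a * emb b := by decide +kernel

theorem emb_eq_one : ∀ a : A, emb a = 1 → a = 0 := by decide +kernel

theorem emb_injective : Function.Injective emb := by
  intro a b h
  have h1 : emb (a - b) * emb b = emb b := by rw [← emb_add, sub_add_cancel, h]
  have := emb_eq_one _ (mul_eq_right.1 h1)
  exact sub_eq_zero.1 this

theorem vv_emb : ∀ v : Fin 4, ∀ a : A, vv v * emb a = emb (act v a) * vv v := by decide +kernel

theorem vv_mul : ∀ v w : Fin 4, vv v * vv w = vv (mulC (0, v) (0, w)).2 := by decide +kernel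

theorem elt_mul (p q : A × Fin 4) : elt p * elt q = elt (mulC p q) := by
  obtain ⟨a, v⟩ := p
  obtain ⟨b, w⟩ := q
  have h : mulC (a, v) (b, w) = (a + act v b, (mulC (0, v) (0, w)).2) := rfl
  rw [h]
  simp only [elt]
  rw [emb_add, mul_assoc, ← mul_assoc (vv v), vv_emb, mul_assoc (emb (act v b)), vv_mul,
    ← mul_assoc]

theorem elt_eq_one : ∀ p : A × Fin 4, elt p = 1 → p = ((0, 0, 0), 0) := by decide +kernel

theorem exists_inv : ∀ p : A × Fin 4, ∃ q, mulC q p = ((0, 0, 0), 0) := by decide +kernel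

theorem mulC_eq_one : ∀ r : A × Fin 4, ∀ p : A × Fin 4,
    mulC r p = ((0, 0, 0), 0) → p = (-(act r.2 r.1), r.2) := by decide +kernel

theorem elt_one : elt ((0, 0, 0), 0) = 1 := by decide +kernel

theorem elt_injective : Function.Injective elt := by
  intro p q h
  obtain ⟨r, hr⟩ := exists_inv q
  have h1 : elt (mulC r p) = 1 := by rw [← elt_mul, h, elt_mul, hr, elt_one]
  rw [mulC_eq_one r p (elt_eq_one _ h1), mulC_eq_one r q hr]

theorem elt_genCoord : ∀ i : Fin 5, elt (genCoord i) =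
    (![swap (0 : Fin 9) 1 * swap 1 2, swap (3 : Fin 9) 4 * swap 4 5, swap (6 : Fin 9) 7 * swap 7 8,
      swap (0 : Fin 9) 1 * swap 3 4, swap (0 : Fin 9) 1 * swap 6 7] : Fin 5 → Perm (Fin 9)) i := by
  decide +kernel

/-- The model subgroup. -/
def model : Subgroup (Perm (Fin 9)) where
  carrier := Set.range elt
  mul_mem' := by
    rintro _ _ ⟨p, rfl⟩ ⟨q, rfl⟩
    exact ⟨_, (elt_mul p q).symm⟩
  one_mem' := ⟨_, elt_one⟩
  inv_mem' := by
    rintro _ ⟨p, rfl⟩
    obtain ⟨q, hq⟩ := exists_inv p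
    refine ⟨q, ?_⟩
    rw [eq_inv_iff_mul_eq_one, elt_mul, hq, elt_one]

theorem closure_gens : Subgroup.closure gens = model := by
  apply le_antisymm
  · rw [Subgroup.closure_le]
    rintro x (rfl | rfl | rfl | rfl | rfl)
    · exact ⟨_, elt_genCoord 0⟩
    · exact ⟨_, elt_genCoord 1⟩
    · exact ⟨_, elt_genCoord 2⟩
    · exact ⟨_, elt_genCoord 3⟩
    · exact ⟨_, elt_genCoord 4⟩
  · rintro x ⟨⟨a, v⟩, rfl⟩
    have m : ∀ {s}, s ∈ gens → s ∈ Subgroup.closure gens := fun h => Subgroup.subset_closure h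
    refine mul_mem (mul_mem (mul_mem (pow_mem (m ?_) _) (pow_mem (m ?_) _))
      (pow_mem (m ?_) _)) ?_
    · simp [gens]
    · simp [gens]
    · simp [gens]
    · have h3 : vv 3 = vv 1 * vv 2 := by decide +kernel
      fin_cases v
      · exact one_mem _
      · exact m (by simp [gens, vv])
      · exact m (by simp [gens, vv])
      · show vv 3 ∈ _
        rw [h3]
        exact mul_mem (m (by simp [gens, vv])) (m (by simp [gens, vv]))

theorem model_card : Nat.card model = 108 := by
  have : Nat.card model = Nat.card (A × Fin 4) :=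
    (Nat.card_congr (_root_.Equiv.ofInjective elt elt_injective)).symm
  rw [this]
  simp

end Cfsg.Agent.Lib.Fgs9.CubeFour
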